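import Groth.Prelude.Def_DualGr
import Mathlib.RingTheory.Smooth.Basic
import Mathlib.RingTheory.Kaehler.TensorProduct
import Mathlib.RingTheory.EssentialFiniteness
import Mathlib.RingTheory.PowerSeries.Basic
import Mathlib.RingTheory.AdicCompletion.LocalRing
import Mathlib.RingTheory.MvPowerSeries.Inverse

/-!
# A thick node is never smooth over a point at which the thickness vanishes
-/

set_option autoImplicit false

universe u

open IsLocalRing

namespace GrothLib.NodeNzd13

section axes

variable {T : Type u} [CommRing T]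

/-- Restriction of a power series in two variables to the `i`-th axis. -/
noncomputable def axis (i : Fin 2) : MvPowerSeries (Fin 2) T →+* PowerSeries T where
  toFun F := PowerSeries.mk fun n => MvPowerSeries.coeff (Finsupp.single i n) F
  map_one' := by
    ext n
    classical
    simp [MvPowerSeries.coeff_one, PowerSeries.coeff_one]
  map_mul' F G := by
    ext n
    classical
    simp [PowerSeries.coeff_mul, MvPowerSeries.coeff_mul, Finsupp.antidiagonal_single]
  map_zero' := by ext n; simp
  map_add' F G := by ext n; simp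

lemma axis_X_self (i : Fin 2) : axis (T := T) i (MvPowerSeries.X i) = PowerSeries.X := by
  ext n
  classical
  simp [axis, MvPowerSeries.coeff_X, PowerSeries.coeff_X, (Finsupp.single_injective i).eq_iff]

lemma axis_X_ne {i j : Fin 2} (h : i ≠ j) : axis (T := T) i (MvPowerSeries.X j) = 0 := by
  ext n
  classical
  rw [map_zero]
  simp only [axis, RingHom.coe_mk, MonoidHom.coe_mk, OneHom.coe_mk, PowerSeries.coeff_mk,
    MvPowerSeries.coeff_X]
  rw [if_neg fun h' => ?_]
  have := DFunLike.congr_fun h' j
  simp [Finsupp.single_apply, h] at this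

lemma axis_C (i : Fin 2) (c : T) : axis i (MvPowerSeries.C c) = PowerSeries.C c := by
  ext n
  classical
  simp [axis, MvPowerSeries.coeff_C, PowerSeries.coeff_C]

lemma constantCoeff_axis (i : Fin 2) (F : MvPowerSeries (Fin 2) T) :
    PowerSeries.constantCoeff (axis i F) = MvPowerSeries.constantCoeff F := by
  rw [← PowerSeries.coeff_zero_eq_constantCoeff_apply]
  simp [axis]

lemma exists_eq_C_add (F : MvPowerSeries (Fin 2) T) :
    ∃ c P Q, F = MvPowerSeries.C c + MvPowerSeries.X 0 * P + MvPowerSeries.X 1 * Q := by
  classical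
  let P : MvPowerSeries (Fin 2) T := fun n => MvPowerSeries.coeff (n + Finsupp.single 0 1) F
  let Q : MvPowerSeries (Fin 2) T :=
    fun n => if n 0 = 0 then MvPowerSeries.coeff (n + Finsupp.single 1 1) F else 0
  refine ⟨MvPowerSeries.constantCoeff F, P, Q, MvPowerSeries.ext fun n => ?_⟩
  rw [map_add, map_add, MvPowerSeries.X, MvPowerSeries.X, MvPowerSeries.coeff_monomial_mul,
    MvPowerSeries.coeff_monomial_mul, MvPowerSeries.coeff_C]
  by_cases h0 : Finsupp.single 0 1 ≤ n
  · have hn0 : n 0 ≠ 0 := by have := h0 0; simp at this; omega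
    rw [if_pos h0, if_neg (fun h => hn0 (by rw [h]; rfl)), zero_add]
    have e : n - Finsupp.single 0 1 + Finsupp.single 0 1 = n := tsub_add_cancel_of_le h0
    rw [show MvPowerSeries.coeff (n - Finsupp.single 0 1) P =
      MvPowerSeries.coeff (n - Finsupp.single 0 1 + Finsupp.single 0 1) F from rfl, e, one_mul]
    split_ifs with h1
    · rw [show MvPowerSeries.coeff (n - Finsupp.single 1 1) Q =
        if (n - Finsupp.single 1 1 : Fin 2 →₀ ℕ) 0 = 0 then _ else 0 from rfl,
        if_neg (by simpa using hn0), mul_zero, add_zero]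
    · rw [add_zero]
  · have hn0 : n 0 = 0 := by
      by_contra hne
      refine h0 (fun j => ?_)
      fin_cases j <;> simp
      omega
    rw [if_neg h0, add_zero]
    by_cases h1 : Finsupp.single 1 1 ≤ n
    · have hn1 : n 1 ≠ 0 := by have := h1 1; simp at this; omega
      rw [if_pos h1, if_neg (fun h => hn1 (by rw [h]; rfl)), one_mul, zero_add,
        show MvPowerSeries.coeff (n - Finsupp.single 1 1) Q =
          if (n - Finsupp.single 1 1 : Fin 2 →₀ ℕ) 0 = 0 then
            MvPowerSeries.coeff (n - Finsupp.single 1 1 + Finsupp.single 1 1) F else 0 from rfl,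
        if_pos (by simp [hn0]), tsub_add_cancel_of_le h1]
    · have : n = 0 := by
        ext j
        fin_cases j
        · simpa using hn0
        · by_contra hne
          refine h1 (fun j => ?_)
          fin_cases j <;> simp
          simp at hne; omega
      rw [if_neg h1, if_pos this, this, MvPowerSeries.coeff_zero_eq_constantCoeff_apply, add_zero]

end axes

variable {D : Type u} [CommRing D]

/-- Over a local ring, the linear coefficient of an element of the square of the maximal ideal
of the ring of power series is not a unit. -/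
lemma coeff_one_mem_of_mem_sq [IsLocalRing D] {F : PowerSeries D}
    (hF : F ∈ (RingHom.ker ((residue D).comp (PowerSeries.constantCoeff (R := D)))) ^ 2) :
    PowerSeries.coeff 1 F ∈ maximalIdeal D := by
  rw [pow_two] at hF
  refine Submodule.mul_induction_on hF (fun x hx y hy => ?_) (fun x y hx hy => ?_)
  · rw [PowerSeries.coeff_one_mul]
    rw [RingHom.mem_ker, RingHom.comp_apply, residue_eq_zero_iff] at hx hy
    exact add_mem (Ideal.mul_mem_left _ _ hy) (Ideal.mul_mem_left _ _ hx)
  · rw [map_add]; exact add_mem hx hy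

section cpl

variable {O : Type u} [CommRing O] [IsLocalRing O] [IsNoetherianRing O]

lemma exists_sub_mem_pow (n : ℕ) (z : Curv2.cpl O) :
    ∃ g : O, algebraMap O (Curv2.cpl O) g - z ∈
      ((maximalIdeal O) ^ n).map (algebraMap O (Curv2.cpl O)) := by
  obtain ⟨g, hg⟩ := Submodule.Quotient.mk_surjective _ (z.1 n)
  refine ⟨g, ?_⟩
  rw [← Submodule.restrictScalars_mem O, ← Ideal.smul_top_eq_map,
    AdicCompletion.pow_smul_top_eq_ker_eval (maximalIdeal O).fg_of_isNoetherianRing]
  simp [AdicCompletion.eval, sub_eq_zero, AdicCompletion.algebraMap_apply]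
  exact hg

omit [IsNoetherianRing O] in
lemma mem_pow_of_algebraMap_mem (n : ℕ) (g : O) (h : algebraMap O (Curv2.cpl O) g ∈
      ((maximalIdeal O) ^ n).map (algebraMap O (Curv2.cpl O))) : g ∈ (maximalIdeal O) ^ n := by
  have hle : ((maximalIdeal O) ^ n).map (algebraMap O (Curv2.cpl O)) ≤
      RingHom.ker (AdicCompletion.evalₐ (maximalIdeal O) n).toRingHom := by
    rw [Ideal.map_le_iff_le_comap]
    intro r hr
    rw [Ideal.mem_comap, RingHom.mem_ker, AlgHom.toRingHom_eq_coe, RingHom.coe_coe,
      AlgHom.commutes, Ideal.Quotient.algebraMap_eq, Ideal.Quotient.eq_zero_iff_mem]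
    exact hr
  have := hle h
  rwa [RingHom.mem_ker, AlgHom.toRingHom_eq_coe, RingHom.coe_coe, AlgHom.commutes,
    Ideal.Quotient.algebraMap_eq, Ideal.Quotient.eq_zero_iff_mem] at this

end cpl

end GrothLib.NodeNzd13
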