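import Groth.Agent.Lib.NodeNzd13.Basic
import Mathlib.RingTheory.Nakayama
import Mathlib.RingTheory.LocalRing.ResidueField.Basic

set_option autoImplicit false

universe u

open IsLocalRing KaehlerDifferential

namespace GrothLib.NodeNzd13

lemma D_mem_pow {R O : Type u} [CommRing R] [CommRing O] [Algebra R O] (I : Ideal O) (n : ℕ)
    {g : O} (hg : g ∈ I ^ (n + 1)) : D R O g ∈ I ^ n • (⊤ : Submodule O Ω[O⁄R]) := by
  induction n generalizing g with
  | zero => simp
  | succ n ih =>
    rw [pow_succ] at hg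
    refine Submodule.mul_induction_on hg (fun x hx y hy => ?_) (fun x y hx hy => ?_)
    · rw [Derivation.leibniz]
      refine add_mem ?_ ?_
      · exact Submodule.smul_mem_smul hx Submodule.mem_top
      · have := Submodule.smul_mem_smul hy (ih hx)
        rwa [← Submodule.mul_smul, ← pow_succ'] at this
    · rw [map_add]; exact add_mem hx hy

set_option maxHeartbeats 1600000 in
theorem false_of_formallySmooth (R : Type u) [CommRing R] [IsNoetherianRing R] [IsLocalRing R]
    [IsAdicComplete (maximalIdeal R) R]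
    (O : Type u) [CommRing O] [IsLocalRing O] [IsNoetherianRing O] [Algebra R O]
    [Algebra.EssFiniteType R O] (a : R) (hnode : DualGr.IsThickNode (algebraMap R O) a)
    (p : Ideal R) [p.IsPrime] (hap : a ∈ p)
    (hsm : ∀ (q : Ideal O) [q.IsPrime], q.comap (algebraMap R O) = p →
      Algebra.FormallySmooth R (Localization.AtPrime q)) : False := by
  classical
  obtain ⟨e, he⟩ := hnode
  -- the map to the node ring
  let h : O →+* DualGr.nodeRing R a := e.toRingHom.comp (algebraMap O (Curv2.cpl O))
  let σ := AdicCompletion.ofAlgEquiv (maximalIdeal R) (S := R)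
  let κ : Curv2.cpl R →+* R ⧸ p := (Ideal.Quotient.mk p).comp σ.symm.toRingEquiv.toRingHom
  have hκ : ∀ r, κ (algebraMap R (Curv2.cpl R) r) = Ideal.Quotient.mk p r := by
    intro r
    show Ideal.Quotient.mk p (σ.symm (algebraMap R (Curv2.cpl R) r)) = _
    rw [AlgEquiv.commutes, Algebra.algebraMap_self, RingHom.id_apply]
  let ψ : Fin 2 → DualGr.nodeRing R a →+* PowerSeries (R ⧸ p) := fun i =>
    Ideal.Quotient.lift _ ((PowerSeries.map κ).comp (axis i)) (by
      intro F hF
      obtain ⟨H, rfl⟩ := Ideal.mem_span_singleton.1 hF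
      have ha0 : κ (algebraMap R (Curv2.cpl R) a) = 0 := by
        rw [hκ, Ideal.Quotient.eq_zero_iff_mem]; exact hap
      rw [RingHom.comp_apply, map_mul, map_mul, map_sub, map_mul, axis_C, map_sub,
        PowerSeries.map_C, ha0, map_zero, sub_zero]
      fin_cases i <;>
        simp [axis_X_ne (show (0 : Fin 2) ≠ 1 by decide), axis_X_ne (show (1 : Fin 2) ≠ 0 by decide)])
  have hψmk : ∀ i F, ψ i (Ideal.Quotient.mk _ F) = PowerSeries.map κ (axis i F) :=
    fun i F => rfl
  have hψC : ∀ i r, ψ i (h (algebraMap R O r)) = PowerSeries.C (Ideal.Quotient.mk p r) := by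
    intro i r
    show ψ i (e (algebraMap O (Curv2.cpl O) (algebraMap R O r))) = _
    rw [he r, hψmk, axis_C, PowerSeries.map_C, hκ]
  have hψ0 : ∀ n, PowerSeries.constantCoeff (ψ 1 n) = PowerSeries.constantCoeff (ψ 0 n) := by
    intro n
    obtain ⟨F, rfl⟩ := Ideal.Quotient.mk_surjective n
    rw [hψmk, hψmk, ← PowerSeries.coeff_zero_eq_constantCoeff_apply,
      ← PowerSeries.coeff_zero_eq_constantCoeff_apply, PowerSeries.coeff_map, PowerSeries.coeff_map,
      PowerSeries.coeff_zero_eq_constantCoeff_apply, PowerSeries.coeff_zero_eq_constantCoeff_apply,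
      constantCoeff_axis, constantCoeff_axis]
  have : IsLocalRing (R ⧸ p) := .of_surjective' _ Ideal.Quotient.mk_surjective
  let MB : Ideal (PowerSeries (R ⧸ p)) :=
    RingHom.ker ((residue (R ⧸ p)).comp (PowerSeries.constantCoeff))
  let χ : O →+* R ⧸ p := (PowerSeries.constantCoeff).comp ((ψ 0).comp h)
  have hχR : ∀ r, χ (algebraMap R O r) = Ideal.Quotient.mk p r := fun r => by
    show PowerSeries.constantCoeff (ψ 0 (h (algebraMap R O r))) = _
    rw [hψC, PowerSeries.constantCoeff_C]
  have hχsurj : Function.Surjective χ := fun d => by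
    obtain ⟨r, rfl⟩ := Ideal.Quotient.mk_surjective d
    exact ⟨algebraMap R O r, hχR r⟩
  have hker : RingHom.ker ((residue (R ⧸ p)).comp χ) = maximalIdeal O :=
    IsLocalRing.eq_maximalIdeal (RingHom.ker_isMaximal_of_surjective _
      (residue_surjective.comp hχsurj))
  have hMB : ∀ i g, g ∈ maximalIdeal O → ψ i (h g) ∈ MB := by
    intro i g hg
    rw [← hker, RingHom.mem_ker] at hg
    rw [RingHom.mem_ker]
    fin_cases i
    · exact hg
    · show residue _ (PowerSeries.constantCoeff (ψ 1 (h g))) = 0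
      rw [hψ0]; exact hg
  -- the maximal ideal of the node ring
  let mN : Ideal (DualGr.nodeRing R a) := (maximalIdeal O).map h
  have hpow : ∀ n, mN ^ n = (((maximalIdeal O) ^ n).map (algebraMap O (Curv2.cpl O))).map e.toRingHom := by
    intro n
    rw [Ideal.map_map, Ideal.map_pow]
  have happrox : ∀ n z, ∃ g, h g - z ∈ mN ^ n := by
    intro n z
    obtain ⟨g, hg⟩ := exists_sub_mem_pow n (e.symm z)
    refine ⟨g, ?_⟩
    rw [hpow]
    have := Ideal.mem_map_of_mem e.toRingHom hg
    rwa [map_sub, show e.toRingHom (e.symm z) = z from e.apply_symm_apply z] at this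
  have hback : ∀ n g, h g ∈ mN ^ n → g ∈ (maximalIdeal O) ^ n := by
    intro n g hg
    refine mem_pow_of_algebraMap_mem n g ?_
    rw [hpow] at hg
    obtain ⟨z, hz, hze⟩ := (Ideal.mem_map_iff_of_surjective e.toRingHom e.surjective).1 hg
    rwa [← e.injective hze]
  have hψpow : ∀ i n z, z ∈ mN ^ n → ψ i z ∈ MB ^ n := by
    intro i n z hz
    have hle : mN.map (ψ i) ≤ MB := by
      rw [Ideal.map_map, Ideal.map_le_iff_le_comap]
      exact fun g hg => hMB i g hg
    have := Ideal.mem_map_of_mem (ψ i) hz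
    rw [Ideal.map_pow] at this
    exact Ideal.pow_right_mono hle n this
  let X' : Fin 2 → DualGr.nodeRing R a := fun i => Ideal.Quotient.mk _ (MvPowerSeries.X i)
  choose x hx using fun i => happrox 3 (X' i)
  have hψX : ∀ i, ψ i (X' i) = PowerSeries.X := fun i => by
    rw [hψmk, axis_X_self, PowerSeries.map_X]
  have hψXne : ∀ i j, i ≠ j → ψ i (X' j) = 0 := fun i j hij => by
    rw [hψmk, axis_X_ne hij, map_zero]
  have hxm : ∀ i, x i ∈ maximalIdeal O := by
    intro i
    rw [← hker, RingHom.mem_ker]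
    have h1 : ψ i (h (x i) - X' i) ∈ MB := Ideal.pow_le_self (by norm_num) (hψpow i 3 _ (hx i))
    rw [map_sub, hψX] at h1
    have hX : PowerSeries.X ∈ MB := by simp [MB]
    have h2 := add_mem h1 hX
    rw [sub_add_cancel, RingHom.mem_ker] at h2
    fin_cases i
    · exact h2
    · show residue _ (PowerSeries.constantCoeff (ψ 0 (h (x 1)))) = 0
      rw [← hψ0]; exact h2
  have hX'm : ∀ i, X' i ∈ mN := fun i => by
    have h1 : h (x i) - (h (x i) - X' i) ∈ mN :=
      sub_mem (Ideal.mem_map_of_mem h (hxm i)) (Ideal.pow_le_self (by norm_num) (hx i))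
    rwa [sub_sub_cancel] at h1
  -- every element is a constant plus a combination of `x 0`, `x 1` up to the square
  have hdec : ∀ g : O, ∃ r o₀ o₁, g - (algebraMap R O r + x 0 * o₀ + x 1 * o₁) ∈ (maximalIdeal O) ^ 2 := by
    intro g
    obtain ⟨F, hF⟩ := Ideal.Quotient.mk_surjective (h g)
    obtain ⟨c, P, Q, rfl⟩ := exists_eq_C_add F
    obtain ⟨o₀, ho₀⟩ := happrox 1 (Ideal.Quotient.mk _ P)
    obtain ⟨o₁, ho₁⟩ := happrox 1 (Ideal.Quotient.mk _ Q)
    refine ⟨σ.symm c, o₀, o₁, hback 2 _ ?_⟩
    rw [pow_one] at ho₀ ho₁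
    have hc : h (algebraMap R O (σ.symm c)) = Ideal.Quotient.mk _ (MvPowerSeries.C c) := by
      show e (algebraMap O (Curv2.cpl O) (algebraMap R O (σ.symm c))) = _
      rw [he]
      congr 2
      rw [AdicCompletion.algebraMap_apply, Algebra.algebraMap_self, RingHom.id_apply]
      exact AdicCompletion.of_ofAlgEquiv_symm _ c
    have h3 : ∀ i, h (x i) - X' i ∈ mN ^ 2 := fun i => Ideal.pow_le_pow_right (by norm_num) (hx i)
    have heq : h (g - (algebraMap R O (σ.symm c) + x 0 * o₀ + x 1 * o₁)) =
        -((h (x 0) - X' 0) * h o₀ + X' 0 * (h o₀ - Ideal.Quotient.mk _ P) +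
          (h (x 1) - X' 1) * h o₁ + X' 1 * (h o₁ - Ideal.Quotient.mk _ Q)) := by
      rw [map_sub, map_add, map_add, map_mul, map_mul, hc, ← hF, map_add, map_add, map_mul, map_mul]
      ring
    rw [heq, pow_two]
    refine neg_mem (add_mem (add_mem (add_mem ?_ (Ideal.mul_mem_mul (hX'm 0) ho₀)) ?_)
      (Ideal.mul_mem_mul (hX'm 1) ho₁))
    · rw [← pow_two]; exact Ideal.mul_mem_right _ _ (h3 0)
    · rw [← pow_two]; exact Ideal.mul_mem_right _ _ (h3 1)
  let J : Ideal O := (maximalIdeal R).map (algebraMap R O) ⊔ Ideal.span {x 0, x 1}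
  have hrm : ∀ g ∈ maximalIdeal O, ∀ r o₀ o₁,
      g - (algebraMap R O r + x 0 * o₀ + x 1 * o₁) ∈ (maximalIdeal O) ^ 2 → r ∈ maximalIdeal R := by
    intro g hg r o₀ o₁ hd hu
    have h1 : algebraMap R O r ∈ maximalIdeal O := by
      have := sub_mem (sub_mem (sub_mem hg (Ideal.pow_le_self two_ne_zero hd))
        (Ideal.mul_mem_right o₀ _ (hxm 0))) (Ideal.mul_mem_right o₁ _ (hxm 1))
      have e1 : g - (g - (algebraMap R O r + x 0 * o₀ + x 1 * o₁)) - x 0 * o₀ - x 1 * o₁ =
          algebraMap R O r := by ring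
      rwa [e1] at this
    exact h1 (hu.map _)
  have hmJ : maximalIdeal O ≤ J := by
    refine Submodule.le_of_le_smul_of_le_jacobson_bot (maximalIdeal O).fg_of_isNoetherianRing
      (IsLocalRing.maximalIdeal_le_jacobson _) fun g hg => ?_
    obtain ⟨r, o₀, o₁, hd⟩ := hdec g
    have : g = (algebraMap R O r + x 0 * o₀ + x 1 * o₁) +
        (g - (algebraMap R O r + x 0 * o₀ + x 1 * o₁)) := by ring
    rw [this]
    refine Submodule.add_mem_sup (add_mem (add_mem ?_ ?_) ?_) (by rwa [smul_eq_mul, ← pow_two])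
    · exact Submodule.mem_sup_left (Ideal.mem_map_of_mem _ (hrm g hg r o₀ o₁ hd))
    · exact Submodule.mem_sup_right (Ideal.mul_mem_right _ _ (Ideal.subset_span (by simp)))
    · exact Submodule.mem_sup_right (Ideal.mul_mem_right _ _ (Ideal.subset_span (by simp)))
  -- differentials are generated by `d (x 0)`, `d (x 1)`
  let γ : (Fin 2 → O) →ₗ[O] Ω[O⁄R] := Fintype.linearCombination O (fun i => D R O (x i))
  have hγ : LinearMap.range γ = ⊤ := by
    have hN : ∀ g ∈ J, D R O g ∈ LinearMap.range γ ⊔ maximalIdeal O • ⊤ := by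
      intro g hg
      obtain ⟨g₁, hg₁, g₂, hg₂, rfl⟩ := Submodule.mem_sup.1 hg
      rw [map_add]
      refine add_mem ?_ ?_
      · clear hg
        induction hg₁ using Submodule.span_induction with
        | mem y hy =>
          obtain ⟨r, hr, rfl⟩ := hy
          rw [Derivation.map_algebraMap]; exact zero_mem _
        | zero => rw [map_zero]; exact zero_mem _
        | add y z _ _ hy hz => rw [map_add]; exact add_mem hy hz
        | smul o y hy' hy =>
          rw [smul_eq_mul, Derivation.leibniz]
          refine add_mem (Submodule.smul_mem _ _ hy) (Submodule.mem_sup_right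
            (Submodule.smul_mem_smul ?_ Submodule.mem_top))
          refine (Ideal.map_le_iff_le_comap.2 ?_) hy'
          intro r hr hu
          have := (residue_eq_zero_iff (Ideal.Quotient.mk p r)).2 (fun hu' => by
            obtain ⟨w, hw⟩ := hu'.exists_right_inv
            obtain ⟨s, rfl⟩ := Ideal.Quotient.mk_surjective w
            rw [← map_mul, ← map_one (Ideal.Quotient.mk p), Ideal.Quotient.eq] at hw
            have h1 := sub_mem (Ideal.mul_mem_right s _ hr)
              (IsLocalRing.le_maximalIdeal (Ideal.IsPrime.ne_top inferInstance) hw)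
            rw [sub_sub_cancel] at h1
            exact (maximalIdeal.isMaximal R).ne_top ((Ideal.eq_top_iff_one _).2 h1))
          rw [← hχR] at this
          have h2 : algebraMap R O r ∈ maximalIdeal O := hker ▸ (RingHom.mem_ker.2 this)
          exact h2 hu
      · obtain ⟨o₀, o₁, rfl⟩ := Ideal.mem_span_pair.1 hg₂
        rw [map_add, Derivation.leibniz, Derivation.leibniz]
        refine add_mem (add_mem (Submodule.mem_sup_left ⟨Pi.single 0 o₀, ?_⟩)
          (Submodule.mem_sup_right (Submodule.smul_mem_smul (hxm 0) Submodule.mem_top)))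
          (add_mem (Submodule.mem_sup_left ⟨Pi.single 1 o₁, ?_⟩)
          (Submodule.mem_sup_right (Submodule.smul_mem_smul (hxm 1) Submodule.mem_top)))
        · simp [γ, Fintype.linearCombination_apply_single]
        · simp [γ, Fintype.linearCombination_apply_single]
    refine top_le_iff.1 (Submodule.le_of_le_smul_of_le_jacobson_bot Module.Finite.fg_top
      (IsLocalRing.maximalIdeal_le_jacobson _) ?_)
    rw [← KaehlerDifferential.span_range_derivation, Submodule.span_le]
    rintro _ ⟨g, rfl⟩
    rw [KaehlerDifferential.span_range_derivation]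
    obtain ⟨r, o₀, o₁, hd⟩ := hdec g
    have hg' : g - algebraMap R O r ∈ maximalIdeal O := by
      have := add_mem (Ideal.pow_le_self two_ne_zero hd)
        (add_mem (Ideal.mul_mem_right o₀ _ (hxm 0)) (Ideal.mul_mem_right o₁ _ (hxm 1)))
      have e1 : g - (algebraMap R O r + x 0 * o₀ + x 1 * o₁) + (x 0 * o₀ + x 1 * o₁) =
          g - algebraMap R O r := by ring
      rwa [e1] at this
    have := hN _ (hmJ hg')
    rwa [map_sub, Derivation.map_algebraMap, sub_zero] at this
  -- the prime over `p`
  let q : Ideal O := RingHom.ker χ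
  have : q.IsPrime := RingHom.ker_isPrime χ
  have hqp : q.comap (algebraMap R O) = p := by
    ext r; simp [q, RingHom.mem_ker, hχR, Ideal.Quotient.eq_zero_iff_mem]
  have := hsm q hqp
  let Oq := Localization.AtPrime q
  -- derivations to `R ⧸ p`
  letI : Algebra O (R ⧸ p) := χ.toAlgebra
  haveI : IsScalarTower R O (R ⧸ p) := IsScalarTower.of_algebraMap_eq fun r => (hχR r).symm
  let dv : Fin 2 → Derivation R O (R ⧸ p) := fun i =>
    Derivation.mk' { toFun := fun g => PowerSeries.coeff 1 (ψ i (h g))
                     map_add' := by intro a b; simp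
                     map_smul' := by
                       intro r g
                       simp only [Algebra.smul_def, map_mul, hψC, RingHom.id_apply]
                       rw [PowerSeries.coeff_C_mul]; rfl }
      (by
        intro a b
        show PowerSeries.coeff 1 (ψ i (h (a * b))) =
          χ a * PowerSeries.coeff 1 (ψ i (h b)) + χ b * PowerSeries.coeff 1 (ψ i (h a))
        rw [map_mul, map_mul, PowerSeries.coeff_one_mul]
        have hc : ∀ g, PowerSeries.constantCoeff (ψ i (h g)) = χ g := fun g => by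
          fin_cases i
          · rfl
          · exact hψ0 _
        rw [hc, hc]; ring)
  have hdx : ∀ i j, PowerSeries.coeff 1 (ψ i (h (x j))) - (if i = j then 1 else 0) ∈
      maximalIdeal (R ⧸ p) := by
    intro i j
    have h1 := coeff_one_mem_of_mem_sq (Ideal.pow_le_pow_right (by norm_num : 2 ≤ 3)
      (hψpow i 3 _ (hx j)))
    split_ifs with hij
    · subst hij; rwa [map_sub, map_sub, hψX, PowerSeries.coeff_one_X] at h1
    · rw [map_sub, map_sub, hψXne i j hij, map_zero] at h1; exact h1
  have hker_q : ∀ v : Fin 2 → O, γ v = 0 → v 0 ∈ q ∧ v 1 ∈ q := by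
    intro v hv
    have hl : ∀ i, χ (v 0) * PowerSeries.coeff 1 (ψ i (h (x 0))) +
        χ (v 1) * PowerSeries.coeff 1 (ψ i (h (x 1))) = 0 := by
      intro i
      have := congrArg (dv i).liftKaehlerDifferential hv
      rw [map_zero, Fintype.linearCombination_apply, Fin.sum_univ_two, map_add, map_smul, map_smul,
        Derivation.liftKaehlerDifferential_comp_D, Derivation.liftKaehlerDifferential_comp_D] at this
      exact this
    set m00 := PowerSeries.coeff 1 (ψ 0 (h (x 0)))
    set m01 := PowerSeries.coeff 1 (ψ 0 (h (x 1)))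
    set m10 := PowerSeries.coeff 1 (ψ 1 (h (x 0)))
    set m11 := PowerSeries.coeff 1 (ψ 1 (h (x 1)))
    have hdet : IsUnit (m00 * m11 - m01 * m10) := by
      rw [← residue_ne_zero_iff_isUnit]
      have e00 : residue _ m00 = 1 := by
        rw [← sub_eq_zero, ← map_one (residue (R ⧸ p)), ← map_sub, residue_eq_zero_iff]
        simpa using hdx 0 0
      have e11 : residue _ m11 = 1 := by
        rw [← sub_eq_zero, ← map_one (residue (R ⧸ p)), ← map_sub, residue_eq_zero_iff]
        simpa using hdx 1 1
      have e01 : residue _ m01 = 0 := by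
        rw [residue_eq_zero_iff]; simpa using hdx 0 1
      simp [e00, e11, e01]
    constructor <;> rw [RingHom.mem_ker] <;> refine (IsUnit.mul_left_eq_zero hdet).1 ?_
    · linear_combination m11 * hl 0 - m01 * hl 1
    · linear_combination -m10 * hl 0 + m00 * hl 1
  -- `γ` becomes injective at `q`
  let L := KaehlerDifferential.map R R O Oq
  haveI : IsLocalizedModule q.primeCompl L := inferInstance
  let γq : (Fin 2 → Oq) →ₗ[Oq] Ω[Oq⁄R] :=
    Fintype.linearCombination Oq (fun i => D R Oq (algebraMap O Oq (x i)))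
  have hγq : ∀ v : Fin 2 → O, γq (fun i => algebraMap O Oq (v i)) = L (γ v) := by
    intro v
    simp only [γq, γ, L, Fintype.linearCombination_apply, map_sum, map_smul,
      KaehlerDifferential.map_D, algebraMap_smul]
  have hnum : ∀ v : Fin 2 → Oq, ∃ (s : q.primeCompl) (w : Fin 2 → O),
      ∀ i, algebraMap O Oq (s : O) * v i = algebraMap O Oq (w i) := by
    intro v
    obtain ⟨⟨a0, s0⟩, h0⟩ := IsLocalization.surj q.primeCompl (v 0)
    obtain ⟨⟨a1, s1⟩, h1⟩ := IsLocalization.surj q.primeCompl (v 1)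
    refine ⟨s0 * s1, ![a0 * s1, a1 * s0], fun i => ?_⟩
    rw [Submonoid.coe_mul, map_mul]
    fin_cases i
    · simp only [Fin.zero_eta, Matrix.cons_val_zero, map_mul]
      linear_combination (algebraMap O Oq (s1 : O)) * h0
    · simp only [Fin.mk_one, Matrix.cons_val_one, Matrix.cons_val_fin_one, map_mul]
      linear_combination (algebraMap O Oq (s0 : O)) * h1
  have hsurj : Function.Surjective γq := by
    intro ω
    obtain ⟨⟨ω₀, s⟩, hω⟩ := IsLocalizedModule.surj q.primeCompl L ω
    obtain ⟨v, hv⟩ := LinearMap.range_eq_top.1 hγ ω₀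
    refine ⟨(IsLocalization.mk' Oq 1 s) • fun i => algebraMap O Oq (v i), ?_⟩
    rw [map_smul, hγq, hv, ← hω]
    show IsLocalization.mk' Oq 1 s • ((s : O) • ω) = ω
    rw [← algebraMap_smul Oq (s : O) ω, smul_smul, IsLocalization.mk'_spec, map_one, one_smul]
  have hzero : ∀ v, γq v = 0 → ∀ i, v i ∈ maximalIdeal Oq := by
    intro v hv
    obtain ⟨s, w, hw⟩ := hnum v
    have h0 : L (γ w) = 0 := by
      rw [← hγq, show (fun i => algebraMap O Oq (w i)) = algebraMap O Oq (s : O) • v from
        funext fun i => (hw i).symm, map_smul, hv, smul_zero]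
    obtain ⟨t, ht⟩ := (IsLocalizedModule.eq_zero_iff q.primeCompl L).1 h0
    have h1 : γ ((t : O) • w) = 0 := by rw [map_smul]; exact ht
    obtain ⟨hw0, hw1⟩ := hker_q _ h1
    intro i
    have hwi : w i ∈ q := by
      fin_cases i
      · exact ((Ideal.IsPrime.mem_or_mem inferInstance hw0)).resolve_left t.2
      · exact ((Ideal.IsPrime.mem_or_mem inferInstance hw1)).resolve_left t.2
    have h2 : algebraMap O Oq (s : O) * v i ∈ maximalIdeal Oq := by
      rw [hw]; exact (IsLocalization.AtPrime.to_map_mem_maximal_iff Oq q (w i)).2 hwi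
    exact ((Ideal.IsPrime.mem_or_mem inferInstance h2)).resolve_left
      fun hs => s.2 ((IsLocalization.AtPrime.to_map_mem_maximal_iff Oq q (s : O)).1 hs)
  have hinj : LinearMap.ker γq = ⊥ := by
    obtain ⟨sec, hsec⟩ := Module.projective_lifting_property γq LinearMap.id hsurj
    let π : (Fin 2 → Oq) →ₗ[Oq] (Fin 2 → Oq) := LinearMap.id - sec ∘ₗ γq
    refine Submodule.eq_bot_of_le_smul_of_le_jacobson_bot (maximalIdeal Oq) _
      (IsNoetherian.noetherian _) ?_ (IsLocalRing.maximalIdeal_le_jacobson _)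
    intro v hv
    have hπv : π v = v := by simp [π, LinearMap.mem_ker.1 hv]
    have hmem : v ∈ maximalIdeal Oq • (⊤ : Submodule Oq (Fin 2 → Oq)) := by
      rw [show v = ∑ i, v i • (Pi.single i (1 : Oq) : Fin 2 → Oq) from pi_eq_sum_univ' v]
      exact Submodule.sum_mem _ fun i _ =>
        Submodule.smul_mem_smul (hzero v (LinearMap.mem_ker.1 hv) i) Submodule.mem_top
    have := Submodule.mem_map_of_mem (f := π) hmem
    rw [Submodule.map_smul'', hπv] at this
    refine Submodule.smul_mono le_rfl ?_ this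
    rintro _ ⟨w, -, rfl⟩
    have hs := LinearMap.congr_fun hsec (γq w)
    simp only [LinearMap.comp_apply, LinearMap.id_apply] at hs
    simp [π, hs]
  -- the equation `xy = a` gives a relation among the differentials
  have hrel : x 0 * x 1 - algebraMap R O a ∈ (maximalIdeal O) ^ 3 := by
    refine hback 3 _ ?_
    have ha : h (algebraMap R O a) = X' 0 * X' 1 := by
      show e (algebraMap O (Curv2.cpl O) (algebraMap R O a)) = _
      rw [he, ← map_mul, Ideal.Quotient.eq]
      refine Ideal.mem_span_singleton.2 ⟨-1, ?_⟩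
      ring
    rw [map_sub, map_mul, ha]
    have : h (x 0) * h (x 1) - X' 0 * X' 1 =
        (h (x 0) - X' 0) * h (x 1) + X' 0 * (h (x 1) - X' 1) := by ring
    rw [this]
    exact add_mem (Ideal.mul_mem_right _ _ (hx 0)) (Ideal.mul_mem_left _ _ (hx 1))
  have hd := D_mem_pow (R := R) _ 2 hrel
  rw [map_sub, Derivation.map_algebraMap, sub_zero, Derivation.leibniz, ← hγ,
    LinearMap.range_eq_map, ← Submodule.map_smul''] at hd
  obtain ⟨v, hv, hveq⟩ := hd
  have hvm : ∀ i, v i ∈ (maximalIdeal O) ^ 2 := by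
    intro i
    have := Submodule.mem_map_of_mem (f := (LinearMap.proj i : (Fin 2 → O) →ₗ[O] O)) hv
    rw [Submodule.map_smul''] at this
    exact Submodule.smul_le.2 (fun r hr n _ => by rw [smul_eq_mul]; exact Ideal.mul_mem_right n _ hr) this
  let w : Fin 2 → O := ![x 1 - v 0, x 0 - v 1]
  have hw : γ w = 0 := by
    have hwv : γ w = (x 0 • D R O (x 1) + x 1 • D R O (x 0)) - γ v := by
      simp only [γ, w, Fintype.linearCombination_apply, Fin.sum_univ_two, Matrix.cons_val_zero,
        Matrix.cons_val_one, Matrix.cons_val_fin_one, sub_smul]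
      abel
    rw [hwv, ← hveq, sub_self]
  have hw0 : (fun i => algebraMap O Oq (w i)) = 0 := by
    have : (fun i => algebraMap O Oq (w i)) ∈ LinearMap.ker γq := by
      rw [LinearMap.mem_ker, hγq, hw, map_zero]
    rwa [hinj, Submodule.mem_bot] at this
  obtain ⟨⟨s, hs⟩, hsw⟩ := (IsLocalization.map_eq_zero_iff q.primeCompl Oq (w 1)).1 (congr_fun hw0 1)
  have hne : ψ 0 (h s) ≠ 0 := fun h0 => hs (by
    show χ s = 0
    simp [χ, h0])
  have h2 : ψ 0 (h (x 0)) = ψ 0 (h (v 1)) := by
    have := congrArg (fun z => ψ 0 (h z)) hsw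
    simp only [map_mul, map_zero, mul_eq_zero, hne, false_or, w, Matrix.cons_val_one,
      Matrix.cons_val_fin_one, map_sub, sub_eq_zero] at this
    exact this
  have h3 : ψ 0 (h (v 1)) ∈ MB ^ 2 := hψpow 0 2 _ (by
    rw [show mN ^ 2 = ((maximalIdeal O) ^ 2).map h from (Ideal.map_pow h _ 2).symm]
    exact Ideal.mem_map_of_mem h (hvm 1))
  have h4 := coeff_one_mem_of_mem_sq h3
  have h5 := hdx 0 0
  rw [h2, if_pos rfl] at h5
  have h6 := sub_mem h4 h5
  rw [sub_sub_cancel] at h6
  exact (maximalIdeal.isMaximal (R ⧸ p)).ne_top ((Ideal.eq_top_iff_one _).2 h6)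

end GrothLib.NodeNzd13
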